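import Groth.Agent.Lib.TrivMod.Over
import Groth.Prelude.Def_EtMod2
import Mathlib.Algebra.Homology.ShortComplex.ModuleCat
import Mathlib.RingTheory.Noetherian.Basic
import Mathlib.RingTheory.Finiteness.Basic

/-!
# Trivialisations on the small étale site: morphisms, kernels, cokernels, extensions
-/

set_option autoImplicit false
set_option linter.style.haveILetI false
set_option backward.isDefEq.respectTransparency.types false

universe u

open CategoryTheory CategoryTheory.Limits AlgebraicGeometry Opposite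

noncomputable section

namespace GrothLib.TrivEt

open TrivMod

variable {X : Scheme.{u}} {Λ : Type (u + 1)} [CommRing Λ]

theorem hasSheafCompose_et (Λ : Type (u + 1)) [CommRing Λ] (X : Scheme.{u}) :
    X.smallEtaleTopology.HasSheafCompose (forget (ModuleCat.{u + 1} Λ)) := inferInstance

/-- Coverings reach every point. -/
theorem exists_of_mem {U : X.Etale} {S : Sieve U} (hS : S ∈ X.smallEtaleTopology U) (y : U.left) :
    ∃ (W : X.Etale) (g : W ⟶ U) (z : W.left), S g ∧ g.left z = y := by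
  rw [Scheme.smallEtaleTopology, Scheme.smallGrothendieckTopology_eq_toGrothendieck_smallPretopology _ le_rfl] at hS
  obtain ⟨W, g, z, hg, -, hz⟩ := (Scheme.mem_toGrothendieck_smallPretopology (P := @Etale) (Q := @Etale) (S := X) U S).1 hS y
  exact ⟨W, g, z, hg, hz⟩

theorem mem_of_forall {U : X.Etale} (S : Sieve U)
    (h : ∀ y : U.left, ∃ (W : X.Etale) (g : W ⟶ U) (z : W.left), S g ∧ g.left z = y) :
    S ∈ X.smallEtaleTopology U := by
  rw [Scheme.smallEtaleTopology, Scheme.smallGrothendieckTopology_eq_toGrothendieck_smallPretopology _ le_rfl]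
  refine (Scheme.mem_toGrothendieck_smallPretopology (P := @Etale) (Q := @Etale) (S := X) U S).2 fun y => ?_
  obtain ⟨W, g, z, hg, hz⟩ := h y
  haveI : Etale (g.left ≫ U.hom) := by rw [MorphismProperty.Over.w g]; exact W.prop
  haveI : Etale U.hom := U.prop
  exact ⟨W, g, z, hg, Etale.of_comp g.left U.hom, hz⟩

theorem not_bot_of_point {W : X.Etale} (z : W.left) : (⊥ : Sieve W) ∉ X.smallEtaleTopology W := fun h => by
  obtain ⟨_, _, _, hg, -⟩ := exists_of_mem h z
  exact hg

/-- A point over two points with the same image. -/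
theorem exists_over_pair {S S' V : X.Etale} (f : S ⟶ V) (g : S' ⟶ V) {s : S.left} {s' : S'.left}
    (h : f.left s = g.left s') :
    ∃ (P : X.Etale) (a : P ⟶ S) (b : P ⟶ S'), a ≫ f = b ≫ g ∧ ∃ p : P.left, a.left p = s ∧ b.left p = s' := by
  haveI : Etale S.hom := S.prop
  haveI : Etale (g.left ≫ V.hom) := by rw [MorphismProperty.Over.w g]; exact S'.prop
  haveI : Etale V.hom := V.prop
  haveI : Etale g.left := Etale.of_comp g.left V.hom
  obtain ⟨p, hp₁, hp₂⟩ := Scheme.Pullback.exists_preimage_pullback (f := f.left) (g := g.left) s s' h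
  let P : X.Etale := MorphismProperty.Over.mk _ (pullback.fst f.left g.left ≫ S.hom)
    (inferInstanceAs (Etale (pullback.fst f.left g.left ≫ S.hom)))
  let a : P ⟶ S := MorphismProperty.Over.homMk (pullback.fst f.left g.left) rfl trivial
  let b : P ⟶ S' := MorphismProperty.Over.homMk (pullback.snd f.left g.left) (by
    show pullback.snd f.left g.left ≫ S'.hom = pullback.fst f.left g.left ≫ S.hom
    rw [← MorphismProperty.Over.w g, ← MorphismProperty.Over.w f]
    exact (pullback.condition_assoc _).symm) trivial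
  exact ⟨P, a, b, MorphismProperty.Over.Hom.ext pullback.condition, p, hp₁, hp₂⟩

/-- A point over two étale neighbourhoods of a point of `X`. -/
theorem exists_over_base (S S' : X.Etale) {s : S.left} {s' : S'.left} (h : S.hom s = S'.hom s') :
    ∃ (P : X.Etale) (_ : P ⟶ S) (_ : P ⟶ S') (p : P.left), P.hom p = S.hom s := by
  haveI : Etale S.hom := S.prop
  haveI : Etale S'.hom := S'.prop
  obtain ⟨p, hp₁, -⟩ := Scheme.Pullback.exists_preimage_pullback (f := S.hom) (g := S'.hom) s s' h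
  refine ⟨MorphismProperty.Over.mk _ (pullback.fst S.hom S'.hom ≫ S.hom)
    (inferInstanceAs (Etale (pullback.fst S.hom S'.hom ≫ S.hom))),
    MorphismProperty.Over.homMk (pullback.fst _ _) rfl trivial,
    MorphismProperty.Over.homMk (pullback.snd _ _) pullback.condition.symm trivial, p, ?_⟩
  show S.hom (pullback.fst S.hom S'.hom p) = S.hom s
  rw [hp₁]

variable {F G : EtModW.Mod Λ X} {U : X.Etale}
variable {M : Type (u + 1)} [AddCommGroup M] [Module Λ M] {N : Type (u + 1)} [AddCommGroup N] [Module Λ N]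

/-- The value at a point retracts the trivialisation. -/
theorem exists_retraction {m : M →ₗ[Λ] F.obj.obj (op U)} (hm : IsTriv X.smallEtaleTopology F U m)
    {W : X.Etale} (f : W ⟶ U) (w : W.left) :
    ∃ r : F.obj.obj (op W) →ₗ[Λ] M, ∀ x, r (res _ F f (m x)) = x := by
  let Has : F.obj.obj (op W) → M → Prop := fun a x => ∃ (W' : X.Etale) (g : W' ⟶ W) (w' : W'.left),
    g.left w' = w ∧ res _ F g a = res _ F (g ≫ f) (m x)
  have hex : ∀ a, ∃ x, Has a x := fun a => by
    obtain ⟨S, hS, hS'⟩ := hm.surj f a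
    obtain ⟨W', g, w', hg, hw⟩ := exists_of_mem hS w
    obtain ⟨x, hx⟩ := hS' g hg
    exact ⟨x, W', g, w', hw, hx⟩
  have huniq : ∀ {a x y}, Has a x → Has a y → x = y := by
    rintro a x y ⟨S, g, s, hs, hx⟩ ⟨S', g', s', hs', hy⟩
    obtain ⟨P, p, q, hpq, z, -, -⟩ := exists_over_pair g g' (hs.trans hs'.symm)
    refine sub_eq_zero.1 ((hm.inj (p ≫ g ≫ f) (x - y) ?_).resolve_right (not_bot_of_point z))
    rw [map_sub, map_sub, sub_eq_zero, res_comp F p, ← hx, ← res_comp, hpq, res_comp, hy, ← res_comp,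
      ← Category.assoc, ← hpq, Category.assoc]
  choose r hr using hex
  refine ⟨{ toFun := r, map_add' := fun a b => ?_, map_smul' := fun c a => ?_ }, fun x => ?_⟩
  · obtain ⟨S, g, s, hs, hx⟩ := hr a
    obtain ⟨S', g', s', hs', hy⟩ := hr b
    obtain ⟨P, p, q, hpq, z, hz, -⟩ := exists_over_pair g g' (hs.trans hs'.symm)
    refine huniq (hr (a + b)) ⟨P, p ≫ g, z, ?_, ?_⟩
    · show g.left (p.left z) = w
      rw [hz, hs]
    · rw [map_add, map_add, map_add, Category.assoc, res_comp F p g a, hx, ← res_comp, hpq, res_comp F q g' b, hy,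
        ← res_comp, ← Category.assoc q, ← hpq, Category.assoc]
  · obtain ⟨S, g, s, hs, hx⟩ := hr a
    exact huniq (hr (c • a)) ⟨S, g, s, hs, by rw [map_smul, hx, RingHom.id_apply, map_smul, map_smul]⟩
  · exact huniq (hr _) ⟨W, 𝟙 W, w, rfl, by rw [res_id, Category.id_comp]⟩

/-- A morphism of trivialised sheaves is locally given by a linear map. -/
theorem exists_hom_triv {m : M →ₗ[Λ] F.obj.obj (op U)} (hm : IsTriv X.smallEtaleTopology F U m)
    {n : N →ₗ[Λ] G.obj.obj (op U)} (hn : IsTriv X.smallEtaleTopology G U n) [Module.Finite Λ M] (φ : F ⟶ G)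
    (y : U.left) :
    ∃ (W : X.Etale) (g : W ⟶ U) (z : W.left) (h : M →ₗ[Λ] N), g.left z = y ∧
      ∀ x, φ.hom.app (op W) (res _ F g (m x)) = res _ G g (n (h x)) := by
  classical
  obtain ⟨a, π, hπ⟩ := Module.Finite.exists_fin' Λ M
  suffices ∀ s : Finset (Fin a), ∃ (W : X.Etale) (g : W ⟶ U) (z : W.left) (c : Fin a → N), g.left z = y ∧
      ∀ i ∈ s, φ.hom.app (op W) (res _ F g (m (π (Pi.single i 1)))) = res _ G g (n (c i)) by
    obtain ⟨W, g, z, c, hz, hc⟩ := this Finset.univ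
    have hΦ : ∀ v : Fin a → Λ, φ.hom.app (op W) (res _ F g (m (π v))) =
        res _ G g (n (Fintype.linearCombination Λ c v)) := fun v => by
      conv_lhs => rw [← Finset.univ_sum_single v]
      simp only [Fintype.linearCombination_apply, map_sum, map_smul]
      refine Finset.sum_congr rfl fun i _ => ?_
      rw [← hc i (Finset.mem_univ i), ← map_smul, ← map_smul, ← map_smul, ← map_smul, ← Pi.single_smul',
        smul_eq_mul, mul_one]
    have hle : LinearMap.ker π ≤ LinearMap.ker (Fintype.linearCombination Λ c) := fun v hv => by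
      refine LinearMap.mem_ker.2 ((hn.inj g _ ?_).resolve_right (not_bot_of_point z))
      rw [← hΦ, LinearMap.mem_ker.1 hv, map_zero, map_zero, map_zero]
    refine ⟨W, g, z, ((LinearMap.ker π).liftQ _ hle).comp (π.quotKerEquivOfSurjective hπ).symm.toLinearMap, hz,
      fun x => ?_⟩
    obtain ⟨v, rfl⟩ := hπ x
    rw [hΦ, LinearMap.comp_apply, LinearEquiv.coe_coe,
      show (π.quotKerEquivOfSurjective hπ).symm (π v) = Submodule.Quotient.mk v from
        (LinearEquiv.symm_apply_eq _).2 rfl, Submodule.liftQ_apply]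
  intro s
  induction s using Finset.induction with
  | empty => exact ⟨U, 𝟙 U, y, 0, rfl, by simp⟩
  | @insert j s hj ih =>
    obtain ⟨W, g, z, c, hz, hc⟩ := ih
    obtain ⟨S, hS, hS'⟩ := hn.surj g (φ.hom.app (op W) (res _ F g (m (π (Pi.single j 1)))))
    obtain ⟨W', k, z', hk, hz'⟩ := exists_of_mem hS z
    obtain ⟨x, hx⟩ := hS' k hk
    have hnat : ∀ b, res _ G k (φ.hom.app (op W) b) = φ.hom.app (op W') (res _ F k b) := fun b =>
      (NatTrans.naturality_apply φ.hom k.op b).symm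
    refine ⟨W', k ≫ g, z', Function.update c j x, ?_, fun i hi => ?_⟩
    · show g.left (k.left z') = y
      rw [hz', hz]
    rw [res_comp F k g, ← hnat]
    rcases Finset.mem_insert.1 hi with rfl | hi
    · rw [hx, Function.update_self]
    · rw [hc i hi, Function.update_of_ne (ne_of_mem_of_not_mem hi hj), res_comp]

/-- Sections of a left exact sequence. -/
theorem exists_of_exact {T : ShortComplex (EtModW.Mod Λ X)} (hT : T.Exact) [Mono T.f] (V : X.Etale) :
    Function.Injective (T.f.hom.app (op V)) ∧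
      ∀ s, T.g.hom.app (op V) s = 0 → ∃ k, T.f.hom.app (op V) k = s := by
  let ev : EtModW.Mod Λ X ⥤ ModuleCat.{u + 1} Λ := sheafToPresheaf _ _ ⋙ (evaluation _ _).obj (op V)
  haveI : ev.PreservesZeroMorphisms := ⟨fun _ _ => rfl⟩
  haveI : PreservesLimit (parallelPair T.g 0) ev := inferInstance
  have h := hT.map_of_mono_of_preservesKernel ev ‹_› inferInstance
  refine ⟨?_, fun s hs => (ShortComplex.moduleCat_exact_iff _).1 h s hs⟩
  haveI : Mono (ev.map T.f) := inferInstance
  exact (ModuleCat.mono_iff_injective (ev.map T.f)).1 inferInstance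

theorem imageSieve_mem_of_epi (φ : F ⟶ G) [Epi φ] {V : X.Etale} (s : G.obj.obj (op V)) :
    Presheaf.imageSieve φ.hom s ∈ X.smallEtaleTopology V := by
  haveI : Sheaf.IsLocallySurjective φ := (Sheaf.isLocallySurjective_iff_epi' (φ := φ)).2 ‹_›
  haveI : Presheaf.IsLocallySurjective X.smallEtaleTopology φ.hom := ‹Sheaf.IsLocallySurjective φ›
  exact Presheaf.imageSieve_mem _ _ _

/-- The trivialisation of a kernel. -/
theorem exists_triv_kernel {T : ShortComplex (EtModW.Mod Λ X)} (hT : T.Exact) [Mono T.f]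
    {m : M →ₗ[Λ] T.X₂.obj.obj (op U)} (hm : IsTriv X.smallEtaleTopology T.X₂ U m)
    {n : N →ₗ[Λ] T.X₃.obj.obj (op U)} (hn : IsTriv X.smallEtaleTopology T.X₃ U n) (h : M →ₗ[Λ] N)
    (hh : ∀ x, T.g.hom.app (op U) (m x) = n (h x)) :
    ∃ k : LinearMap.ker h →ₗ[Λ] T.X₁.obj.obj (op U), IsTriv X.smallEtaleTopology T.X₁ U k := by
  haveI := hasSheafCompose_et Λ X
  have hf := fun V => exists_of_exact hT V
  have hl : ∀ x : LinearMap.ker h, ∃ k, T.f.hom.app (op U) k = m x := fun x =>
    (hf U).2 _ (by rw [hh, LinearMap.mem_ker.1 x.2, map_zero])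
  choose k hk using hl
  have hnat : ∀ {V W : X.Etale} (g : W ⟶ V) (s), T.f.hom.app (op W) (res _ T.X₁ g s) =
      res _ T.X₂ g (T.f.hom.app (op V) s) := fun g s => NatTrans.naturality_apply T.f.hom g.op s
  have hnat' : ∀ {V W : X.Etale} (g : W ⟶ V) (s), T.g.hom.app (op W) (res _ T.X₂ g s) =
      res _ T.X₃ g (T.g.hom.app (op V) s) := fun g s => NatTrans.naturality_apply T.g.hom g.op s
  let K : LinearMap.ker h →ₗ[Λ] T.X₁.obj.obj (op U) :=
    { toFun := k
      map_add' := fun a b => (hf U).1 (by rw [map_add, hk, hk, hk, Submodule.coe_add, map_add])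
      map_smul' := fun c a => (hf U).1 (by
        rw [map_smul, hk, hk, Submodule.coe_smul, map_smul, RingHom.id_apply]) }
  refine ⟨K, fun V f s => ?_, fun V f x hx => ?_⟩
  · obtain ⟨S, hS, hS'⟩ := hm.surj f (T.f.hom.app (op V) s)
    refine ⟨S, hS, fun W g hg => ?_⟩
    obtain ⟨x, hx⟩ := hS' g hg
    have hz : res _ T.X₃ (g ≫ f) (n (h x)) = 0 := by
      rw [← hh, ← hnat', ← hx, ← hnat]
      exact ConcreteCategory.congr_hom (congrArg (fun ψ : T.X₁ ⟶ T.X₃ => ψ.hom.app (op W)) T.zero) _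
    rcases hn.inj (g ≫ f) (h x) hz with h0 | h0
    · exact ⟨⟨x, LinearMap.mem_ker.2 h0⟩, (hf W).1 (by
        rw [hnat, hnat]
        exact hx.trans (congrArg (res _ T.X₂ (g ≫ f)) (hk ⟨x, LinearMap.mem_ker.2 h0⟩).symm))⟩
    · exact ⟨0, res_ext T.X₁ h0 fun _ _ hb => (hb : False).elim⟩
  · refine (hm.inj f x ?_).imp (fun h0 => Subtype.ext h0) id
    rw [← hk, ← hnat]
    exact (congrArg (T.f.hom.app (op V)) hx).trans (map_zero _)

/-- The trivialisation of a cokernel. -/
theorem exists_triv_cokernel (φ : F ⟶ G) {m : M →ₗ[Λ] F.obj.obj (op U)}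
    (hm : IsTriv X.smallEtaleTopology F U m)
    {n : N →ₗ[Λ] G.obj.obj (op U)} (hn : IsTriv X.smallEtaleTopology G U n) (h : M →ₗ[Λ] N)
    (hh : ∀ x, φ.hom.app (op U) (m x) = n (h x)) :
    ∃ k : (N ⧸ LinearMap.range h) →ₗ[Λ] (cokernel φ).obj.obj (op U),
      IsTriv X.smallEtaleTopology (cokernel φ) U k := by
  haveI := hasSheafCompose_et Λ X
  let q := cokernel.π φ
  have hnatφ : ∀ {V W : X.Etale} (g : W ⟶ V) (s), φ.hom.app (op W) (res _ F g s) =
      res _ G g (φ.hom.app (op V) s) := fun g s => NatTrans.naturality_apply φ.hom g.op s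
  have hnat : ∀ {V W : X.Etale} (g : W ⟶ V) (s), q.hom.app (op W) (res _ G g s) =
      res _ (cokernel φ) g (q.hom.app (op V) s) := fun g s => NatTrans.naturality_apply q.hom g.op s
  have hzero : ∀ {V : X.Etale} (s), q.hom.app (op V) (φ.hom.app (op V) s) = 0 := fun {V} s =>
    ConcreteCategory.congr_hom (congrArg (fun ψ : F ⟶ cokernel φ => ψ.hom.app (op V)) (cokernel.condition φ)) s
  let K : (N ⧸ LinearMap.range h) →ₗ[Λ] (cokernel φ).obj.obj (op U) :=
    (LinearMap.range h).liftQ ((q.hom.app (op U)).hom.comp n) (by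
      rintro _ ⟨x, rfl⟩
      refine LinearMap.mem_ker.2 ?_
      show q.hom.app (op U) (n (h x)) = 0
      rw [← hh, hzero])
  refine ⟨K, fun V f s => ?_, fun V f x hx => or_iff_not_imp_right.2 fun hV => ?_⟩
  · let S : Sieve V :=
      { arrows := fun W g => ∃ x, res _ (cokernel φ) g s = res _ (cokernel φ) (g ≫ f) (K x)
        downward_closed := by
          rintro W W' g ⟨x, hx⟩ l
          exact ⟨x, by rw [res_comp, hx, ← res_comp, Category.assoc]⟩ }
    refine ⟨S, X.smallEtaleTopology.transitive (imageSieve_mem_of_epi q s) S fun W g hg => ?_, fun W g hg => hg⟩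
    obtain ⟨t, ht⟩ := hg
    obtain ⟨R, hR, hR'⟩ := hn.surj (g ≫ f) t
    refine X.smallEtaleTopology.superset_covering (fun W' k hk => ?_) hR
    obtain ⟨x, hx⟩ := hR' k hk
    refine ⟨Submodule.Quotient.mk x, ?_⟩
    rw [res_comp, show res _ (cokernel φ) g s = q.hom.app (op W) t from ht.symm, ← hnat, hx, hnat,
      ← Category.assoc]
    rfl
  · obtain ⟨x, rfl⟩ := Submodule.Quotient.mk_surjective _ x
    have hx' : q.hom.app (op V) (res _ G f (n x)) = 0 := (hnat f (n x)).trans hx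
    let T : ShortComplex (EtModW.Mod Λ X) := ShortComplex.mk (kernel.ι q) q (kernel.condition q)
    have hTe : T.Exact := ShortComplex.exact_of_f_is_kernel _ (kernelIsKernel q)
    obtain ⟨t, ht⟩ := (exists_of_exact hTe V).2 _ hx'
    let T' : ShortComplex (EtModW.Mod Λ X) := ShortComplex.mk φ q (cokernel.condition φ)
    haveI : Epi (kernel.lift q φ (cokernel.condition φ)) :=
      (ShortComplex.exact_of_g_is_cokernel T' (cokernelIsCokernel φ)).epi_kernelLift
    obtain ⟨W₀, hW₀⟩ : ∃ y : V.left, True := by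
      by_contra hne
      exact hV (mem_of_forall _ fun y => (hne ⟨y, trivial⟩).elim)
    obtain ⟨W, g, z, ⟨a, ha⟩, hz⟩ := exists_of_mem (imageSieve_mem_of_epi (kernel.lift q φ (cokernel.condition φ)) t) W₀
    obtain ⟨R, hR, hR'⟩ := hm.surj (g ≫ f) a
    obtain ⟨W', k, z', hk, -⟩ := exists_of_mem hR z
    obtain ⟨w, hw⟩ := hR' k hk
    have e : φ.hom.app (op W) a = res _ G g (res _ G f (n x)) := by
      rw [← ht]
      refine Eq.trans ?_ (NatTrans.naturality_apply (kernel.ι q).hom g.op t)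
      refine Eq.trans ?_ (congrArg ((kernel.ι q).hom.app (op W)) ha)
      exact (ConcreteCategory.congr_hom (congrArg (fun ψ : F ⟶ G => ψ.hom.app (op W))
        (kernel.lift_ι q φ (cokernel.condition φ))) a).symm
    have e₂ : res _ G (k ≫ g ≫ f) (n (x - h w)) = 0 := by
      rw [map_sub, map_sub, sub_eq_zero, ← hh w, ← hnatφ, ← hw, hnatφ, e, ← res_comp, ← res_comp, Category.assoc]
    rw [Submodule.Quotient.mk_eq_zero]
    exact ⟨w, (sub_eq_zero.1 ((hn.inj _ _ e₂).resolve_right (not_bot_of_point z'))).symm⟩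

/-- The trivialisation of an extension. -/
theorem exists_triv_extension [IsNoetherianRing Λ] {T : ShortComplex (EtModW.Mod Λ X)} (hT : T.ShortExact)
    {m : M →ₗ[Λ] T.X₁.obj.obj (op U)} (hm : IsTriv X.smallEtaleTopology T.X₁ U m) [Module.Finite Λ M]
    {n : N →ₗ[Λ] T.X₃.obj.obj (op U)} (hn : IsTriv X.smallEtaleTopology T.X₃ U n) [Module.Finite Λ N]
    (y : U.left) :
    ∃ (W : X.Etale) (g : W ⟶ U) (z : W.left), g.left z = y ∧ ∃ (M₂ : Submodule Λ (T.X₂.obj.obj (op W))),
      M₂.FG ∧ IsTriv X.smallEtaleTopology T.X₂ W M₂.subtype := by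
  classical
  haveI := hasSheafCompose_et Λ X
  haveI := hT.mono_f
  haveI := hT.epi_g
  have hf := fun V => exists_of_exact hT.exact V
  have hnatf : ∀ {V W : X.Etale} (g : W ⟶ V) (s), T.f.hom.app (op W) (res _ T.X₁ g s) =
      res _ T.X₂ g (T.f.hom.app (op V) s) := fun g s => NatTrans.naturality_apply T.f.hom g.op s
  have hnatg : ∀ {V W : X.Etale} (g : W ⟶ V) (s), T.g.hom.app (op W) (res _ T.X₂ g s) =
      res _ T.X₃ g (T.g.hom.app (op V) s) := fun g s => NatTrans.naturality_apply T.g.hom g.op s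
  have hzero : ∀ {V : X.Etale} (s), T.g.hom.app (op V) (T.f.hom.app (op V) s) = 0 := fun {V} s =>
    ConcreteCategory.congr_hom (congrArg (fun ψ : T.X₁ ⟶ T.X₃ => ψ.hom.app (op V)) T.zero) s
  obtain ⟨a, π, hπ⟩ := Module.Finite.exists_fin' Λ N
  -- lift the generators
  obtain ⟨W₁, g₁, z₁, e, hz₁, he⟩ : ∃ (W : X.Etale) (g : W ⟶ U) (z : W.left) (e : Fin a → T.X₂.obj.obj (op W)),
      g.left z = y ∧ ∀ i, T.g.hom.app (op W) (e i) = res _ T.X₃ g (n (π (Pi.single i 1))) := by
    suffices ∀ s : Finset (Fin a), ∃ (W : X.Etale) (g : W ⟶ U) (z : W.left) (e : Fin a → T.X₂.obj.obj (op W)),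
        g.left z = y ∧ ∀ i ∈ s, T.g.hom.app (op W) (e i) = res _ T.X₃ g (n (π (Pi.single i 1))) by
      obtain ⟨W, g, z, e, hz, he⟩ := this Finset.univ
      exact ⟨W, g, z, e, hz, fun i => he i (Finset.mem_univ i)⟩
    intro s
    induction s using Finset.induction with
    | empty => exact ⟨U, 𝟙 U, y, 0, rfl, by simp⟩
    | @insert j s hj ih =>
      obtain ⟨W, g, z, e, hz, he⟩ := ih
      obtain ⟨W', k, z', ⟨t, ht⟩, hz'⟩ := exists_of_mem
        (imageSieve_mem_of_epi T.g (res _ T.X₃ g (n (π (Pi.single j 1))))) z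
      refine ⟨W', k ≫ g, z', Function.update (fun i => res _ T.X₂ k (e i)) j t, ?_, fun i hi => ?_⟩
      · show g.left (k.left z') = y
        rw [hz', hz]
      rcases Finset.mem_insert.1 hi with rfl | hi
      · rw [Function.update_self, res_comp]
        exact ht
      · rw [Function.update_of_ne (ne_of_mem_of_not_mem hi hj), hnatg, he i hi, res_comp]
  have hΨ : ∀ {W : X.Etale} (k : W ⟶ W₁) (v : Fin a → Λ), T.g.hom.app (op W)
      (Fintype.linearCombination Λ (fun i => res _ T.X₂ k (e i)) v) = res _ T.X₃ (k ≫ g₁) (n (π v)) := by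
    intro W k v
    conv_rhs => rw [← Finset.univ_sum_single v]
    simp only [Fintype.linearCombination_apply, map_sum, map_smul]
    refine Finset.sum_congr rfl fun i _ => ?_
    rw [hnatg, he, ← res_comp, ← map_smul, ← map_smul, ← map_smul, ← Pi.single_smul', smul_eq_mul, mul_one]
  -- absorb the relations
  obtain ⟨t, ht⟩ : (LinearMap.ker π).FG := IsNoetherian.noetherian _
  obtain ⟨W, k, z, hz, hk⟩ : ∃ (W : X.Etale) (k : W ⟶ W₁) (z : W.left), k.left z = z₁ ∧ ∀ r ∈ t,
      ∃ x, Fintype.linearCombination Λ (fun i => res _ T.X₂ k (e i)) r =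
        T.f.hom.app (op W) (res _ T.X₁ (k ≫ g₁) (m x)) := by
    suffices ∀ s : Finset (Fin a → Λ), s ⊆ t → ∃ (W : X.Etale) (k : W ⟶ W₁) (z : W.left), k.left z = z₁ ∧
        ∀ r ∈ s, ∃ x, Fintype.linearCombination Λ (fun i => res _ T.X₂ k (e i)) r =
          T.f.hom.app (op W) (res _ T.X₁ (k ≫ g₁) (m x)) from this t subset_rfl
    intro s
    induction s using Finset.induction with
    | empty => exact fun _ => ⟨W₁, 𝟙 _, z₁, rfl, by simp⟩
    | @insert r s _ ih =>
      intro hsub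
      obtain ⟨W, k, z, hz, hk⟩ := ih ((Finset.subset_insert r s).trans hsub)
      obtain ⟨c, hc⟩ := (hf W).2 _ ((hΨ k r).trans (by
        rw [show π r = 0 from LinearMap.mem_ker.1 (ht ▸ Submodule.subset_span
          (hsub (Finset.mem_insert_self r s))), map_zero, map_zero]))
      obtain ⟨R, hR, hR'⟩ := hm.surj (k ≫ g₁) c
      obtain ⟨W', l, z', hl, hz'⟩ := exists_of_mem hR z
      obtain ⟨x, hx⟩ := hR' l hl
      have hres : ∀ v, Fintype.linearCombination Λ (fun i => res _ T.X₂ (l ≫ k) (e i)) v =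
          res _ T.X₂ l (Fintype.linearCombination Λ (fun i => res _ T.X₂ k (e i)) v) := fun v => by
        simp only [Fintype.linearCombination_apply, map_sum, map_smul, res_comp]
      refine ⟨W', l ≫ k, z', ?_, fun q hq => ?_⟩
      · show k.left (l.left z') = z₁
        rw [hz', hz]
      rcases Finset.mem_insert.1 hq with rfl | hq
      · exact ⟨x, by rw [hres, ← hc, ← hnatf, hx, Category.assoc]⟩
      · obtain ⟨x', hx'⟩ := hk q hq
        exact ⟨x', by rw [hres, hx', ← hnatf, ← res_comp, Category.assoc]⟩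
  let A : M →ₗ[Λ] T.X₂.obj.obj (op W) :=
    ((T.f.hom.app (op W)).hom.comp (res _ T.X₁ (k ≫ g₁))).comp m
  let Ψ : (Fin a → Λ) →ₗ[Λ] T.X₂.obj.obj (op W) := Fintype.linearCombination Λ fun i => res _ T.X₂ k (e i)
  have hrel : LinearMap.ker π ≤ (LinearMap.range A).comap Ψ := by
    rw [← ht]
    exact Submodule.span_le.2 fun r hr => by
      obtain ⟨x, hx⟩ := hk r hr
      exact ⟨x, hx.symm⟩
  refine ⟨W, k ≫ g₁, z, ?_, LinearMap.range A ⊔ LinearMap.range Ψ, ?_, fun V f s => ?_, fun V f x hx => ?_⟩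
  · show g₁.left (k.left z) = y
    rw [hz, hz₁]
  · exact (Module.Finite.iff_fg.1 (Module.Finite.range A)).sup (Module.Finite.iff_fg.1 (Module.Finite.range Ψ))
  · let S : Sieve V :=
      { arrows := fun V' l => ∃ x : ↥(LinearMap.range A ⊔ LinearMap.range Ψ),
          res _ T.X₂ l s = res _ T.X₂ (l ≫ f) (x : T.X₂.obj.obj (op W))
        downward_closed := by
          rintro V' V'' l ⟨x, hx⟩ p
          exact ⟨x, by rw [res_comp, hx, ← res_comp, Category.assoc]⟩ }
    refine ⟨S, mem_of_forall _ fun v => ?_, fun V' l hl => hl⟩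
    obtain ⟨R, hR, hR'⟩ := hn.surj (f ≫ k ≫ g₁) (T.g.hom.app (op V) s)
    obtain ⟨V₁, l, v₁, hl, hv₁⟩ := exists_of_mem hR v
    obtain ⟨w, hw⟩ := hR' l hl
    obtain ⟨b, rfl⟩ := hπ w
    obtain ⟨c, hc⟩ := (hf V₁).2 (res _ T.X₂ l s - res _ T.X₂ (l ≫ f) (Ψ b)) (by
      rw [map_sub, sub_eq_zero, hnatg, hw, hnatg, hΨ k b, ← res_comp, Category.assoc])
    obtain ⟨R', hR₂, hR₂'⟩ := hm.surj (l ≫ f ≫ k ≫ g₁) c
    obtain ⟨V₂, p, v₂, hp, hv₂⟩ := exists_of_mem hR₂ v₁
    obtain ⟨x, hx⟩ := hR₂' p hp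
    refine ⟨V₂, p ≫ l, v₂, ⟨⟨A x + Ψ b, Submodule.add_mem_sup ⟨x, rfl⟩ ⟨b, rfl⟩⟩, ?_⟩, ?_⟩
    · have h1 : res _ T.X₂ ((p ≫ l) ≫ f) (A x) = res _ T.X₂ p (T.f.hom.app (op V₁) c) := by
        rw [← hnatf, hx]
        simp only [A, LinearMap.comp_apply, ← res_comp, Category.assoc, ← hnatf]
      show res _ T.X₂ (p ≫ l) s = res _ T.X₂ ((p ≫ l) ≫ f) (A x + Ψ b)
      rw [map_add, h1, hc, map_sub, Category.assoc, res_comp T.X₂ p (l ≫ f), res_comp T.X₂ p l, sub_add_cancel]
    · show l.left (p.left v₂) = v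
      rw [hv₂, hv₁]
  · obtain ⟨x, hxmem⟩ := x
    refine or_iff_not_imp_right.2 fun hV => Subtype.ext ?_
    show x = 0
    have hx' : res _ T.X₂ f x = 0 := hx
    obtain ⟨p, ⟨q, hq⟩, r, ⟨b, hb⟩, hx''⟩ := Submodule.mem_sup.1 hxmem
    have h0 : π b = 0 := by
      refine (hn.inj (f ≫ k ≫ g₁) (π b) ?_).resolve_right hV
      have := congrArg (T.g.hom.app (op V)) hx'
      rw [map_zero, hnatg, ← hx'', map_add, ← hq, ← hb] at this
      simp only [A, LinearMap.comp_apply] at this
      rw [hΨ k b] at this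
      erw [hzero, zero_add, ← res_comp] at this
      exact this
    obtain ⟨q', hq'⟩ := hrel (LinearMap.mem_ker.2 h0)
    have hx3 : x = A (q + q') := by rw [map_add, hq', ← hx'', ← hq, ← hb]
    rw [hx3]
    have : q + q' = 0 := (hm.inj (f ≫ k ≫ g₁) (q + q') ((hf V).1 (by
      rw [map_zero, res_comp, hnatf]
      exact (congrArg (res _ T.X₂ f) hx3).symm.trans hx'))).resolve_right hV
    rw [this, map_zero]

theorem exists_triv_of_isFTLocConst (hF : EtModW.IsFTLocConst Λ F) (x : X) :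
    ∃ (V : X.Etale) (v : V.left), V.hom v = x ∧ ∃ (M : Type (u + 1)) (_ : AddCommGroup M) (_ : Module Λ M)
      (_ : Module.Finite Λ M) (m : M →ₗ[Λ] F.obj.obj (op V)), IsTriv X.smallEtaleTopology F V m := by
  obtain ⟨ι, V, hV, hVi⟩ := hF
  obtain ⟨i, v, hv⟩ := hV x
  obtain ⟨M, _, _, hM, ⟨e⟩⟩ := hVi i
  obtain ⟨m, hm⟩ := exists_isTriv_of_iso (V i) e
  exact ⟨V i, v, hv, M, inferInstance, inferInstance, hM, m, hm⟩

theorem exists_common (hF : EtModW.IsFTLocConst Λ F) (hG : EtModW.IsFTLocConst Λ G) (x : X) :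
    ∃ (V : X.Etale) (v : V.left), V.hom v = x ∧
      ∃ (M N : Type (u + 1)) (_ : AddCommGroup M) (_ : AddCommGroup N) (_ : Module Λ M) (_ : Module Λ N)
        (_ : Module.Finite Λ M) (_ : Module.Finite Λ N) (m : M →ₗ[Λ] F.obj.obj (op V))
        (n : N →ₗ[Λ] G.obj.obj (op V)),
        IsTriv X.smallEtaleTopology F V m ∧ IsTriv X.smallEtaleTopology G V n := by
  obtain ⟨V, v, hv, M, _, _, _, m, hm⟩ := exists_triv_of_isFTLocConst hF x
  obtain ⟨V', v', hv', N, _, _, _, n, hn⟩ := exists_triv_of_isFTLocConst hG x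
  obtain ⟨P, p, q, z, hz⟩ := exists_over_base V V' (hv.trans hv'.symm)
  exact ⟨P, z, hz.trans hv, M, N, inferInstance, inferInstance, inferInstance, inferInstance, inferInstance,
    inferInstance, _, _, hm.restrict p, hn.restrict q⟩

theorem isFTLocConst_of_forall (h : ∀ x : X, ∃ (V : X.Etale) (v : V.left), V.hom v = x ∧
    ∃ (M : Type (u + 1)) (_ : AddCommGroup M) (_ : Module Λ M)
      (_ : Module.Finite Λ M) (m : M →ₗ[Λ] F.obj.obj (op V)), IsTriv X.smallEtaleTopology F V m) :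
    EtModW.IsFTLocConst Λ F := by
  choose V v hv M i₁ i₂ hM m hm using h
  exact ⟨X, V, fun x => ⟨x, v x, hv x⟩, fun x => ⟨M x, i₁ x, i₂ x, hM x,
    by exact nonempty_iso_of_isTriv.{u + 1, u, u + 1} _ (hm x)⟩⟩

theorem hom_over_eq {W V : X.Etale} (g : W ⟶ V) {z : W.left} {v : V.left} (h : g.left z = v) :
    W.hom z = V.hom v := by
  rw [← MorphismProperty.Over.w g, ← h]
  rfl

end GrothLib.TrivEt
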