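import Groth.Agent.Lib.TrivMod.Et
import Groth.Agent.Lib.EtSite.Points
import Mathlib.AlgebraicGeometry.Sites.EtalePoint
import Mathlib.AlgebraicGeometry.Morphisms.UniversallyOpen
import Mathlib.AlgebraicGeometry.Morphisms.FlatDescent
import Mathlib.CategoryTheory.CofilteredSystem
import Mathlib.FieldTheory.Minpoly.Field

/-!
# Specialisation of stalks of locally trivial sheaves of modules
-/

set_option autoImplicit false
set_option linter.style.haveILetI false
set_option backward.isDefEq.respectTransparency.types false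

universe u

open CategoryTheory CategoryTheory.Limits AlgebraicGeometry Opposite TensorProduct

noncomputable section

namespace GrothLib.TrivEt

open TrivMod

variable {X : Scheme.{u}}
variable {Ω : Type u} [Field Ω] [IsSepClosed Ω] (ξ : Spec (CommRingCat.of Ω) ⟶ X)
variable {Ω' : Type u} [Field Ω'] [IsSepClosed Ω'] (ξ' : Spec (CommRingCat.of Ω') ⟶ X)

/-- An affine neighbourhood of a geometric point lying over an affine open. -/
theorem exists_affine_refine {U : X.Etale} (t : (Scheme.pointSmallEtale ξ).fiber.obj U) :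
    ∃ (V : X.Etale) (g : V ⟶ U) (s : (Scheme.pointSmallEtale ξ).fiber.obj V) (A : X.Opens),
      (Scheme.pointSmallEtale ξ).fiber.map g s = t ∧ IsAffine V.left ∧ IsAffineOpen A ∧
        ∀ v, V.hom v ∈ A := by
  let y : U.left := t.left (default : Spec (CommRingCat.of Ω))
  obtain ⟨A, hA, hyA⟩ : ∃ A : X.Opens, IsAffineOpen A ∧ U.hom y ∈ A := by
    obtain ⟨_, ⟨A, hA, rfl⟩, hyA, -⟩ :=
      X.isBasis_affineOpens.exists_subset_of_mem_open (Set.mem_univ (U.hom y)) isOpen_univ
    exact ⟨A, hA, hyA⟩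
  obtain ⟨O, hO, hyO, hOA⟩ : ∃ O : U.left.Opens, IsAffineOpen O ∧ y ∈ O ∧ O ≤ U.hom ⁻¹ᵁ A := by
    obtain ⟨_, ⟨O, hO, rfl⟩, hyO, hOA⟩ :=
      U.left.isBasis_affineOpens.exists_subset_of_mem_open (show y ∈ ((U.hom ⁻¹ᵁ A : U.left.Opens) : Set U.left)
        from hyA) (U.hom ⁻¹ᵁ A).isOpen
    exact ⟨O, hO, hyO, hOA⟩
  haveI : Etale U.hom := U.prop
  let V : X.Etale := MorphismProperty.Over.mk _ (O.ι ≫ U.hom) (inferInstanceAs (Etale (O.ι ≫ U.hom)))
  let g : V ⟶ U := MorphismProperty.Over.homMk O.ι rfl trivial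
  let tl : Spec (CommRingCat.of Ω) ⟶ U.left := t.left
  have hsub : Set.range tl ⊆ Set.range O.ι := by
    rintro _ ⟨z, rfl⟩
    rw [Subsingleton.elim z default, Scheme.Opens.range_ι]
    exact hyO
  let l : Spec (CommRingCat.of Ω) ⟶ O := IsOpenImmersion.lift O.ι tl hsub
  have hl : l ≫ O.ι = tl := IsOpenImmersion.lift_fac _ _ _
  refine ⟨V, g, Over.homMk l ?_, A, Over.OverMorphism.ext hl, hO, hA, fun v => hOA v.2⟩
  show l ≫ O.ι ≫ U.hom = ξ
  rw [← Category.assoc, hl]
  exact Over.w t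

/-- An affine étale object over an affine open has finitely many points over a geometric point. -/
theorem finite_fiber_of_affine {V : X.Etale} [IsAffine V.left] {A : X.Opens} (hA : IsAffineOpen A)
    (hVA : ∀ v, V.hom v ∈ A) : Finite ((Scheme.pointSmallEtale ξ).fiber.obj V) := by
  by_contra hinf
  rw [not_finite_iff_infinite] at hinf
  obtain ⟨t₀⟩ : Nonempty ((Scheme.pointSmallEtale ξ).fiber.obj V) := inferInstance
  haveI : Etale V.hom := V.prop
  haveI : IsAffine (A : Scheme) := hA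
  let p : V.left ⟶ A := IsOpenImmersion.lift A.ι V.hom (by
    rw [Scheme.Opens.range_ι]; rintro _ ⟨v, rfl⟩; exact hVA v)
  have hp : p ≫ A.ι = V.hom := IsOpenImmersion.lift_fac _ _ _
  haveI : Etale (p ≫ A.ι) := hp ▸ inferInstance
  haveI : Etale p := Etale.of_comp p A.ι
  let φ : Γ(X, A) ⟶ Γ(V.left, ⊤) := Spec.preimage (V.left.isoSpec.inv ≫ p ≫ hA.isoSpec.hom)
  have hφ : Spec.map φ = V.left.isoSpec.inv ≫ p ≫ hA.isoSpec.hom := Spec.map_preimage _
  haveI : Etale (Spec.map φ) := by rw [hφ]; infer_instance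
  have hφet : φ.hom.Etale := (HasRingHomProperty.Spec_iff (P := @Etale)).1 inferInstance
  let ψ : (Scheme.pointSmallEtale ξ).fiber.obj V → (Γ(V.left, ⊤) ⟶ CommRingCat.of Ω) := fun t =>
    Spec.preimage ((t.left : Spec (CommRingCat.of Ω) ⟶ V.left) ≫ V.left.isoSpec.hom)
  have hψ : ∀ t, φ ≫ ψ t = φ ≫ ψ t₀ := fun t => by
    apply Spec.map_injective
    rw [Spec.map_comp, Spec.map_comp, hφ]
    simp only [ψ, Spec.map_preimage, Category.assoc, Iso.hom_inv_id_assoc]
    rw [← cancel_mono hA.fromSpec]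
    simp only [Category.assoc, IsAffineOpen.isoSpec_hom_fromSpec, hp]
    exact (congrArg ((t.left : Spec (CommRingCat.of Ω) ⟶ V.left) ≫ ·) (V.left.isoSpec.hom_inv_id_assoc V.hom)).trans
      (((Over.w t).trans (Over.w t₀).symm).trans
        (congrArg ((t₀.left : Spec (CommRingCat.of Ω) ⟶ V.left) ≫ ·) (V.left.isoSpec.hom_inv_id_assoc V.hom)).symm)
  letI : Algebra Γ(X, A) Γ(V.left, ⊤) := φ.hom.toAlgebra
  letI : Algebra Γ(X, A) Ω := (φ ≫ ψ t₀).hom.toAlgebra
  haveI : Algebra.Etale Γ(X, A) Γ(V.left, ⊤) := RingHom.etale_algebraMap.1 hφet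
  haveI : Module.Finite Ω (Ω ⊗[Γ(X, A)] Γ(V.left, ⊤)) := Algebra.FormallyUnramified.finite_of_free _ _
  let θ : (Scheme.pointSmallEtale ξ).fiber.obj V → ((Ω ⊗[Γ(X, A)] Γ(V.left, ⊤)) →ₐ[Ω] Ω) := fun t =>
    Algebra.TensorProduct.lift (Algebra.ofId Ω Ω)
      { (ψ t).hom with commutes' := fun r => congr($(hψ t).hom r) } fun _ _ => Commute.all _ _
  refine not_finite_iff_infinite.2 hinf (Finite.of_injective θ fun t t' h => ?_)
  have hh : ψ t = ψ t' := by
    ext b
    have := DFunLike.congr_fun h (1 ⊗ₜ b)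
    simp only [θ, Algebra.TensorProduct.lift_tmul, map_one, one_mul] at this
    exact this
  have h2 : (t.left : Spec (CommRingCat.of Ω) ⟶ V.left) ≫ V.left.isoSpec.hom =
      (t'.left : Spec (CommRingCat.of Ω) ⟶ V.left) ≫ V.left.isoSpec.hom :=
    (Spec.map_preimage _).symm.trans ((congrArg Spec.map hh).trans (Spec.map_preimage _))
  exact Over.OverMorphism.ext ((cancel_mono V.left.isoSpec.hom).1 h2)

/-- A compatible choice of points over `ξ'` near the points over `ξ`. -/
theorem exists_natTrans (h : ξ'.base default ⤳ ξ.base default) :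
    Nonempty ((Scheme.pointSmallEtale ξ).fiber ⟶ (Scheme.pointSmallEtale ξ').fiber) := by
  let P := Scheme.pointSmallEtale ξ
  let P' := Scheme.pointSmallEtale ξ'
  let T : P.fiber.Elements ⥤ Type u := CategoryOfElements.π P.fiber ⋙ P'.fiber
  haveI : ∀ j, Nonempty (T.obj j) := fun j => by
    obtain ⟨U, t⟩ := j
    haveI : Etale U.hom := U.prop
    obtain ⟨y, hy⟩ := h.mem_open (U.hom.isOpenMap.isOpen_range)
      ⟨t.left (default : Spec (CommRingCat.of Ω)), congrArg (fun k : Spec (CommRingCat.of Ω) ⟶ X => k.base default) (Over.w t)⟩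
    obtain ⟨s, -⟩ := Scheme.pointSmallEtaleFiberObjToPreimage_surjective ξ' rfl U ⟨y, hy⟩
    exact ⟨s⟩
  have hfin : ∀ j : P.fiber.Elements, ∃ (i : P.fiber.Elements) (f : i ⟶ j),
      Finite (T.obj i) := fun j => by
    obtain ⟨U, t⟩ := j
    obtain ⟨V, g, s, A, hs, hV, hA, hVA⟩ := exists_affine_refine ξ t
    haveI := hV
    exact ⟨⟨V, s⟩, ⟨g, hs⟩, finite_fiber_of_affine ξ' (V := V) hA hVA⟩
  have hml : T.IsMittagLeffler := Functor.isMittagLeffler_of_exists_finite_range T fun j => by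
    obtain ⟨i, f, hi⟩ := hfin j
    exact ⟨i, f, Set.finite_range _⟩
  haveI : ∀ j, Finite (T.toEventualRanges.obj j) := fun j => by
    obtain ⟨i, f, hi⟩ := hfin j
    refine Set.Finite.to_subtype ((Set.finite_range (T.map f)).subset fun x hx => ?_)
    exact T.mem_eventualRange_iff.1 hx f
  haveI : ∀ j, Nonempty (T.toEventualRanges.obj j) := fun j => T.toEventualRanges_nonempty hml j
  obtain ⟨σ, hσ⟩ := nonempty_sections_of_finite_cofiltered_system T.toEventualRanges
  let τ := (T.toEventualRangesSectionsEquiv ⟨σ, hσ⟩)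
  exact ⟨{ app := fun U => TypeCat.ofHom fun t => τ.1 ⟨U, t⟩
           naturality := fun U V g => by
             ext t
             exact (τ.2 (CategoryOfElements.homMk (P.fiber.elementsMk U t) (P.fiber.elementsMk V (P.fiber.map g t)) g rfl)).symm }⟩

variable {Λ : Type (u + 1)} [CommRing Λ]

theorem preservesFilteredColimits_forget_mod (Λ : Type (u + 1)) [CommRing Λ] :
    PreservesFilteredColimitsOfSize.{u, u} (forget (ModuleCat.{u + 1} Λ)) :=
  preservesFilteredColimitsOfSize_shrink.{u, u + 1, u, u + 1} _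

/-- On a trivialised neighbourhood the stalk is the value module. -/
theorem bijective_germ {F : EtModW.Mod Λ X} {U : X.Etale} {M : Type (u + 1)} [AddCommGroup M] [Module Λ M]
    {m : M →ₗ[Λ] F.obj.obj (op U)} (hm : IsTriv X.smallEtaleTopology F U m)
    (t : (Scheme.pointSmallEtale ξ).fiber.obj U) :
    Function.Bijective fun x => (Scheme.pointSmallEtale ξ).toPresheafFiber U t F.obj (m x) := by
  haveI := preservesFilteredColimits_forget_mod Λ
  let P := Scheme.pointSmallEtale ξ
  constructor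
  · intro x y hxy
    obtain ⟨V, g, s, -, hg⟩ := (P.toPresheafFiber_eq_iff' U t _ _).1 hxy
    refine sub_eq_zero.1 ((hm.inj g (x - y) ?_).resolve_right
      (not_bot_of_point (s.left (default : Spec (CommRingCat.of Ω)))))
    rw [map_sub, map_sub, sub_eq_zero]
    exact hg
  · intro p
    obtain ⟨W, t', r, rfl⟩ := P.toPresheafFiber_jointly_surjective p
    obtain ⟨⟨V, v⟩, ⟨q, hq⟩, ⟨q', hq'⟩, -⟩ :=
      IsCofilteredOrEmpty.cone_objs (C := P.fiber.Elements) ⟨U, t⟩ ⟨W, t'⟩
    obtain ⟨S, hS, hS'⟩ := hm.surj q (F.obj.map q'.op r)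
    obtain ⟨V', g, hg, v', hv'⟩ := P.jointly_surjective S hS v
    obtain ⟨x, hx⟩ := hS' g hg
    refine ⟨x, ?_⟩
    have e : P.toPresheafFiber V' v' F.obj (res _ F g (F.obj.map q'.op r)) =
        P.toPresheafFiber V' v' F.obj (res _ F (g ≫ q) (m x)) := congrArg _ hx
    simp only [TrivMod.res, op_comp, Functor.map_comp] at e
    simp only [ModuleCat.hom_comp, LinearMap.comp_apply, P.toPresheafFiber_w_apply, hv'] at e
    rw [show P.fiber.map q v = t from hq, show P.fiber.map q' v = t' from hq'] at e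
    exact e.symm

/-- Systems of locally trivial sheaves have isomorphic stalk systems at points one generalising the other. -/
theorem nonempty_iso_of_specializes {J : Type*} [Category J] (F : J ⥤ EtModW.Mod Λ X)
    (hF : ∀ j, ∀ x : X, ∃ (V : X.Etale) (v : V.left), V.hom v = x ∧ ∃ (M : Type (u + 1)) (_ : AddCommGroup M)
      (_ : Module Λ M) (m : M →ₗ[Λ] (F.obj j).obj.obj (op V)), IsTriv X.smallEtaleTopology (F.obj j) V m)
    (h : ξ'.base default ⤳ ξ.base default) :
    Nonempty ((F ⋙ EtModW.stalk Λ ξ) ≅ (F ⋙ EtModW.stalk Λ ξ')) := by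
  haveI := preservesFilteredColimits_forget_mod Λ
  let P := Scheme.pointSmallEtale ξ
  let P' := Scheme.pointSmallEtale ξ'
  obtain ⟨τ⟩ := exists_natTrans ξ ξ' h
  let sp : ∀ Q : X.Etaleᵒᵖ ⥤ ModuleCat.{u + 1} Λ, P.presheafFiber.obj Q ⟶ P'.presheafFiber.obj Q := fun Q =>
    P.presheafFiberDesc (fun U t => P'.toPresheafFiber U (τ.app U t) Q) (fun {U V} f t => by
      rw [NatTrans.naturality_apply τ f t]
      exact P'.toPresheafFiber_w f (τ.app U t) Q)
  have hsp : ∀ Q U t, P.toPresheafFiber U t Q ≫ sp Q = P'.toPresheafFiber U (τ.app U t) Q := fun Q U t =>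
    P.toPresheafFiber_presheafFiberDesc _ _ U t
  let η : (F ⋙ EtModW.stalk Λ ξ) ⟶ (F ⋙ EtModW.stalk Λ ξ') :=
    { app := fun j => sp (F.obj j).obj
      naturality := fun i j f => P.presheafFiber_hom_ext fun U t => by
        show P.toPresheafFiber U t _ ≫ P.presheafFiber.map (F.map f).hom ≫ sp _ =
          P.toPresheafFiber U t _ ≫ sp _ ≫ P'.presheafFiber.map (F.map f).hom
        rw [P.toPresheafFiber_naturality_assoc, hsp, reassoc_of% hsp, P'.toPresheafFiber_naturality] }
  haveI : ∀ j, IsIso (η.app j) := fun j => by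
    obtain ⟨V, v, hv, M, _, _, m, hm⟩ := hF j (ξ.base default)
    obtain ⟨t, -⟩ := Scheme.pointSmallEtaleFiberObjToPreimage_surjective ξ rfl V ⟨v, hv⟩
    refine (ConcreteCategory.isIso_iff_bijective _).2 ((Function.Bijective.of_comp_iff _ (bijective_germ ξ hm t)).1 ?_)
    have e : ((η.app j) : _ → _) ∘ (fun x => P.toPresheafFiber V t (F.obj j).obj (m x)) =
        fun x => P'.toPresheafFiber V (τ.app V t) (F.obj j).obj (m x) :=
      funext fun x => ConcreteCategory.congr_hom (hsp (F.obj j).obj V t) (m x)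
    exact e ▸ bijective_germ ξ' hm (τ.app V t)
  haveI : IsIso η := NatIso.isIso_of_isIso_app η
  exact ⟨asIso η⟩

end GrothLib.TrivEt
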