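import Mathlib.CategoryTheory.Sites.ConstantSheaf
import Mathlib.CategoryTheory.Sites.Over
import Mathlib.Algebra.Category.ModuleCat.Basic
import Mathlib.CategoryTheory.Sites.EpiMono

/-!
# Trivialisations of sheaves of modules on slices

`IsTriv J F U m` says that the linear map `m : M → F(U)` identifies the restriction of `F` to the
slice over `U` with the constant sheaf on `M`, in an elementwise form.
-/

set_option autoImplicit false
set_option linter.style.haveILetI false
set_option backward.isDefEq.respectTransparency.types false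

universe w v' u'

open CategoryTheory CategoryTheory.Limits Opposite

namespace GrothLib.TrivMod

variable {C : Type u'} [Category.{v'} C] (J : GrothendieckTopology C) {R : Type w} [Ring R]

/-- The linear restriction map. -/
abbrev res (F : Sheaf J (ModuleCat.{w} R)) {V U : C} (f : V ⟶ U) :
    F.obj.obj (op U) →ₗ[R] F.obj.obj (op V) :=
  (F.obj.map f.op).hom

variable {J}

theorem res_comp (F : Sheaf J (ModuleCat.{w} R)) {W V U : C} (g : W ⟶ V) (f : V ⟶ U) (s : F.obj.obj (op U)) :
    res J F (g ≫ f) s = res J F g (res J F f s) := by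
  simp [res]

theorem res_id (F : Sheaf J (ModuleCat.{w} R)) {U : C} (s : F.obj.obj (op U)) : res J F (𝟙 U) s = s := by
  simp [res]

/-- Sections agreeing on a covering sieve agree. -/
theorem res_ext [J.HasSheafCompose (forget (ModuleCat.{w} R))] (F : Sheaf J (ModuleCat.{w} R)) {U : C} {S : Sieve U} (hS : S ∈ J U) {s t : F.obj.obj (op U)}
    (h : ∀ ⦃W⦄ (g : W ⟶ U), S g → res J F g s = res J F g t) : s = t :=
  (((isSheaf_iff_isSheaf_of_type _ _).1
    ((sheafCompose J (forget (ModuleCat.{w} R))).obj F).property) S hS).isSeparatedFor.ext h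

variable (J)

/-- An elementwise trivialisation. -/
structure IsTriv (F : Sheaf J (ModuleCat.{w} R)) (U : C) {M : Type w} [AddCommGroup M] [Module R M]
    (m : M →ₗ[R] F.obj.obj (op U)) : Prop where
  surj : ∀ ⦃V : C⦄ (f : V ⟶ U) (s : F.obj.obj (op V)),
    ∃ S ∈ J V, ∀ ⦃W : C⦄ (g : W ⟶ V), S g → ∃ x : M, res J F g s = res J F (g ≫ f) (m x)
  inj : ∀ ⦃V : C⦄ (f : V ⟶ U) (x : M), res J F f (m x) = 0 → x = 0 ∨ (⊥ : Sieve V) ∈ J V

variable {J} {F G : Sheaf J (ModuleCat.{w} R)} {U : C}
variable {M : Type w} [AddCommGroup M] [Module R M]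

theorem IsTriv.restrict {m : M →ₗ[R] F.obj.obj (op U)} (h : IsTriv J F U m) {V : C} (g : V ⟶ U) :
    IsTriv J F V ((res J F g).comp m) := by
  refine ⟨fun W f s => ?_, fun W f x hx => ?_⟩
  · obtain ⟨S, hS, hS'⟩ := h.surj (f ≫ g) s
    refine ⟨S, hS, fun Z k hk => ?_⟩
    obtain ⟨x, hx⟩ := hS' k hk
    exact ⟨x, by rw [hx, ← Category.assoc, res_comp]; rfl⟩
  · exact h.inj (f ≫ g) x (by rw [res_comp]; exact hx)

/-- Trivialisations can be checked locally. -/
theorem IsTriv.of_sieve {m : M →ₗ[R] F.obj.obj (op U)} {S : Sieve U} (hS : S ∈ J U)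
    (h : ∀ ⦃V⦄ (g : V ⟶ U), S g → IsTriv J F V ((res J F g).comp m)) : IsTriv J F U m := by
  refine ⟨fun V f s => ?_, fun V f x hx => or_iff_not_imp_left.2 fun hx0 => ?_⟩
  · let T : Sieve V :=
      { arrows := fun W g => ∃ x : M, res J F g s = res J F (g ≫ f) (m x)
        downward_closed := by
          rintro W W' g ⟨x, hx⟩ k
          exact ⟨x, by rw [res_comp, hx, ← res_comp, Category.assoc]⟩ }
    refine ⟨T, J.transitive (J.pullback_stable f hS) T fun W g hg => ?_, fun W g hg => hg⟩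
    obtain ⟨S', hS', hS''⟩ := (h (g ≫ f) hg).surj (𝟙 W) (res J F g s)
    refine J.superset_covering (fun Z k hk => ?_) hS'
    obtain ⟨x, hx⟩ := hS'' k hk
    refine ⟨x, ?_⟩
    rw [res_comp, hx]
    simp [← res_comp]
  · refine J.transitive (J.pullback_stable f hS) ⊥ fun W g hg => ?_
    have := ((h (g ≫ f) hg).inj (𝟙 W) x (by
      rw [res_id]
      show res J F (g ≫ f) (m x) = 0
      rw [res_comp, hx, map_zero])).resolve_left hx0
    exact J.superset_covering bot_le this

theorem IsTriv.map_iso {m : M →ₗ[R] F.obj.obj (op U)} (h : IsTriv J F U m) (e : F ≅ G) :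
    IsTriv J G U ((e.hom.hom.app (op U)).hom.comp m) := by
  have hnat : ∀ {V W : C} (g : W ⟶ V) (s : F.obj.obj (op V)),
      res J G g (e.hom.hom.app (op V) s) = e.hom.hom.app (op W) (res J F g s) := fun g s =>
    (NatTrans.naturality_apply e.hom.hom g.op s).symm
  have hinv : ∀ {V : C} (s : G.obj.obj (op V)), e.hom.hom.app (op V) (e.inv.hom.app (op V) s) = s := fun s => by
    rw [← ConcreteCategory.comp_apply, ← NatTrans.comp_app, ← ObjectProperty.FullSubcategory.comp_hom,
      e.inv_hom_id]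
    rfl
  have hhom : ∀ {V : C} (s : F.obj.obj (op V)), e.inv.hom.app (op V) (e.hom.hom.app (op V) s) = s := fun s => by
    rw [← ConcreteCategory.comp_apply, ← NatTrans.comp_app, ← ObjectProperty.FullSubcategory.comp_hom,
      e.hom_inv_id]
    rfl
  refine ⟨fun V f s => ?_, fun V f x hx => h.inj f x ?_⟩
  · obtain ⟨S, hS, hS'⟩ := h.surj f (e.inv.hom.app (op V) s)
    refine ⟨S, hS, fun W g hg => ?_⟩
    obtain ⟨x, hx⟩ := hS' g hg
    refine ⟨x, ?_⟩
    have := congrArg (e.hom.hom.app (op W)) hx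
    rw [← hnat, hinv, ← hnat] at this
    exact this
  · have hx' : res J G f (e.hom.hom.app (op U) (m x)) = 0 := hx
    rw [hnat] at hx'
    rw [← hhom (res J F f (m x)), hx', map_zero]

/-- Two trivialisations on a nonempty object differ by an isomorphism. -/
theorem bijective_of_isTriv {M' : Type w} [AddCommGroup M'] [Module R M']
    {m : M →ₗ[R] F.obj.obj (op U)} {m' : M' →ₗ[R] F.obj.obj (op U)} (h : IsTriv J F U m)
    (h' : IsTriv J F U m') (hU : (⊥ : Sieve U) ∉ J U) (φ : M →ₗ[R] M') (hφ : m'.comp φ = m) :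
    Function.Bijective φ := by
  refine ⟨(injective_iff_map_eq_zero φ).2 fun x hx => (h.inj (𝟙 U) x ?_).resolve_right hU, fun c => ?_⟩
  · rw [res_id, ← hφ, LinearMap.comp_apply, hx, map_zero]
  · obtain ⟨S, hS, hS'⟩ := h.surj (𝟙 U) (m' c)
    obtain ⟨W, g, hg, hW⟩ : ∃ (W : C) (g : W ⟶ U), S g ∧ (⊥ : Sieve W) ∉ J W := by
      by_contra hh
      push Not at hh
      exact hU (J.transitive hS ⊥ fun W g hg => J.superset_covering bot_le (hh W g hg))
    obtain ⟨x, hx⟩ := hS' g hg
    refine ⟨x, (sub_eq_zero.1 ((h'.inj g (c - φ x) ?_).resolve_right hW)).symm⟩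
    rw [map_sub, map_sub, hx, Category.comp_id, ← hφ]
    exact sub_self _

theorem IsTriv.comp_equiv {M' : Type w} [AddCommGroup M'] [Module R M'] {m : M →ₗ[R] F.obj.obj (op U)}
    (h : IsTriv J F U m) (φ : M' →ₗ[R] M) (hφ : Function.Bijective φ) : IsTriv J F U (m.comp φ) := by
  refine ⟨fun V f s => ?_, fun V f x hx => (h.inj f (φ x) hx).imp (fun h0 => hφ.1 (h0.trans (map_zero φ).symm)) id⟩
  obtain ⟨S, hS, hS'⟩ := h.surj f s
  refine ⟨S, hS, fun W g hg => ?_⟩
  obtain ⟨x, hx⟩ := hS' g hg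
  obtain ⟨y, rfl⟩ := hφ.2 x
  exact ⟨y, hx⟩

/-- A morphism carrying local trivialisations to local trivialisations is an isomorphism. -/
theorem isIso_of_isTriv [J.WEqualsLocallyBijective (ModuleCat.{w} R)]
    [J.HasSheafCompose (forget (ModuleCat.{w} R))] (φ : F ⟶ G)
    (h : ∀ V : C, ∃ S ∈ J V, ∀ ⦃W⦄ (g : W ⟶ V), S g → ∃ (U : C) (_ : W ⟶ U) (M : Type w) (_ : AddCommGroup M)
      (_ : Module R M) (m : M →ₗ[R] F.obj.obj (op U)),
      IsTriv J F U m ∧ IsTriv J G U ((φ.hom.app (op U)).hom.comp m)) : IsIso φ := by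
  have hnat : ∀ {V W : C} (g : W ⟶ V) (s : F.obj.obj (op V)),
      res J G g (φ.hom.app (op V) s) = φ.hom.app (op W) (res J F g s) := fun g s =>
    (NatTrans.naturality_apply φ.hom g.op s).symm
  have hinj : ∀ (V : C) (a : F.obj.obj (op V)), φ.hom.app (op V) a = 0 → a = 0 := fun V a ha => by
    obtain ⟨S, hS, hS'⟩ := h V
    refine res_ext F hS fun W g hg => ?_
    obtain ⟨U, q, M, _, _, m, hm, hm'⟩ := hS' g hg
    obtain ⟨T, hT, hT'⟩ := hm.surj q (res J F g a)
    refine res_ext F hT fun Z k hk => ?_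
    obtain ⟨x, hx⟩ := hT' k hk
    rw [map_zero, map_zero, hx]
    have h0 : res J G (k ≫ q) (φ.hom.app (op U) (m x)) = 0 := by
      rw [hnat, ← hx, ← hnat, ← hnat, ha, map_zero, map_zero]
    rcases hm'.inj (k ≫ q) x h0 with h1 | h1
    · rw [h1, map_zero, map_zero]
    · exact res_ext F h1 fun _ _ hb => (hb : False).elim
  haveI : Sheaf.IsLocallyInjective φ := ⟨fun {V} x y hxy => by
    obtain rfl : x = y := sub_eq_zero.1 (hinj _ _ (by rw [map_sub, hxy, sub_self]))
    simp⟩
  haveI : Sheaf.IsLocallySurjective φ := ⟨fun {V} b => by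
    obtain ⟨S, hS, hS'⟩ := h V
    refine J.transitive hS _ fun W g hg => ?_
    obtain ⟨U, q, M, _, _, m, hm, hm'⟩ := hS' g hg
    obtain ⟨T, hT, hT'⟩ := hm'.surj q (res J G g b)
    refine J.superset_covering (fun Z k hk => ?_) hT
    obtain ⟨x, hx⟩ := hT' k hk
    refine ⟨res J F (k ≫ q) (m x), ?_⟩
    show φ.hom.app (op Z) (res J F (k ≫ q) (m x)) = res J G (k ≫ g) b
    rw [← hnat, res_comp G k g, hx]
    rfl⟩
  haveI : Presheaf.IsLocallyInjective J φ.hom := ‹Sheaf.IsLocallyInjective φ›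
  haveI : Presheaf.IsLocallySurjective J φ.hom := ‹Sheaf.IsLocallySurjective φ›
  exact (Sheaf.isLocallyBijective_iff_isIso φ).1 ⟨‹_›, ‹_›⟩

section Over

variable (U) [HasWeakSheafify (J.over U) (ModuleCat.{w} R)]
  [(J.over U).WEqualsLocallyBijective (ModuleCat.{w} R)]

/-- A trivialisation gives an isomorphism with the constant sheaf. -/
theorem nonempty_iso_of_isTriv {m : M →ₗ[R] F.obj.obj (op U)} (h : IsTriv J F U m) :
    Nonempty (F.over U ≅ (constantSheaf (J.over U) (ModuleCat.{w} R)).obj (ModuleCat.of R M)) := by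
  let g : (Functor.const (Over U)ᵒᵖ).obj (ModuleCat.of R M) ⟶ (F.over U).obj :=
    { app := fun V => ModuleCat.ofHom ((res J F V.unop.hom).comp m)
      naturality := fun V W a => by
        ext x
        show res J F W.unop.hom (m x) = res J F a.unop.left (res J F V.unop.hom (m x))
        rw [← res_comp, Over.w a.unop] }
  haveI : Presheaf.IsLocallyInjective (J.over U) g := ⟨fun {V} x y hxy => by
    have hxy' : res J F V.unop.hom (m (x - y)) = 0 := by
      rw [map_sub, map_sub]
      exact sub_eq_zero.2 hxy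
    rcases h.inj V.unop.hom (x - y) hxy' with h1 | h1
    · obtain rfl : x = y := sub_eq_zero.1 h1
      simp
    · refine (J.over U).superset_covering bot_le ?_
      rw [GrothendieckTopology.mem_over_iff]
      exact J.superset_covering bot_le h1⟩
  haveI : Presheaf.IsLocallySurjective (J.over U) g := ⟨fun {V} s => by
    obtain ⟨S, hS, hS'⟩ := h.surj V.hom s
    rw [GrothendieckTopology.mem_over_iff]
    refine J.superset_covering (fun W k hk => ?_) hS
    obtain ⟨x, hx⟩ := hS' k hk
    rw [Sieve.overEquiv_iff]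
    exact ⟨x, hx.symm⟩⟩
  have hg : (J.over U).W g := (J.over U).W_of_isLocallyBijective g
  rw [GrothendieckTopology.W_iff] at hg
  exact ⟨(asIso ((presheafToSheaf (J.over U) (ModuleCat.{w} R)).map g) ≪≫
    asIso ((sheafificationAdjunction (J.over U) (ModuleCat.{w} R)).counit.app (F.over U))).symm⟩

/-- An isomorphism with the constant sheaf gives a trivialisation. -/
theorem exists_isTriv_of_iso
    (e : F.over U ≅ (constantSheaf (J.over U) (ModuleCat.{w} R)).obj (ModuleCat.of R M)) :
    ∃ m : M →ₗ[R] F.obj.obj (op U), IsTriv J F U m := by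
  let g : (Functor.const (Over U)ᵒᵖ).obj (ModuleCat.of R M) ⟶ (F.over U).obj :=
    toSheafify (J.over U) _ ≫ e.inv.hom
  haveI he : IsIso e.inv.hom := inferInstanceAs (IsIso ((sheafToPresheaf _ _).map e.inv))
  let ψ : sheafify (J.over U) ((Functor.const (Over U)ᵒᵖ).obj (ModuleCat.of R M)) ⟶ (F.over U).obj := e.inv.hom
  haveI : IsIso ψ := he
  obtain ⟨hi, hs⟩ := ((J.over U).W_iff_isLocallyBijective _).1
    ((J.over U).W_toSheafify ((Functor.const (Over U)ᵒᵖ).obj (ModuleCat.of R M)))
  haveI := hi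
  haveI := hs
  haveI : Presheaf.IsLocallyInjective (J.over U) g :=
    inferInstanceAs (Presheaf.IsLocallyInjective (J.over U) (toSheafify (J.over U) _ ≫ ψ))
  haveI : Presheaf.IsLocallySurjective (J.over U) g :=
    inferInstanceAs (Presheaf.IsLocallySurjective (J.over U) (toSheafify (J.over U) _ ≫ ψ))
  let m : M →ₗ[R] F.obj.obj (op U) := (g.app (op (Over.mk (𝟙 U)))).hom
  have hm : ∀ {V : C} (f : V ⟶ U) (x : M), g.app (op (Over.mk f)) x = res J F f (m x) := fun {V} f x => by
    exact NatTrans.naturality_apply g (Over.homMk f : Over.mk f ⟶ Over.mk (𝟙 U)).op x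
  refine ⟨m, fun V f s => ?_, fun V f x hx => ?_⟩
  · have := Presheaf.imageSieve_mem (J.over U) g (U := op (Over.mk f)) s
    rw [GrothendieckTopology.mem_over_iff] at this
    refine ⟨_, this, fun W k hk => ?_⟩
    rw [Sieve.overEquiv_iff] at hk
    obtain ⟨x, hx⟩ := hk
    refine ⟨x, ?_⟩
    rw [← hm]
    exact hx.symm
  · refine or_iff_not_imp_left.2 fun hx0 => ?_
    have := Presheaf.equalizerSieve_mem (J.over U) g (X := op (Over.mk f)) x 0
      (by rw [map_zero, hm, hx]; rfl)
    rw [GrothendieckTopology.mem_over_iff] at this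
    refine J.superset_covering (fun W k hk => ?_) this
    rw [Sieve.overEquiv_iff] at hk
    exact (hx0 hk).elim

end Over

end GrothLib.TrivMod
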