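import Groth.Agent.Lib.TrivMod.Et

/-!
# The canonical trivialisation of a constant sheaf of modules
-/

set_option autoImplicit false
set_option linter.style.haveILetI false
set_option backward.isDefEq.respectTransparency.types false

universe u

open CategoryTheory CategoryTheory.Limits AlgebraicGeometry Opposite

noncomputable section

namespace GrothLib.TrivEt

open TrivMod

variable {X : Scheme.{u}} {Λ : Type (u + 1)} [CommRing Λ]
variable (M : Type (u + 1)) [AddCommGroup M] [Module Λ M]

/-- Constant sections. -/
abbrev constSec (V : X.Etale) : M →ₗ[Λ] (EtModW.constMod Λ X M).obj.obj (op V) :=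
  ((toSheafify X.smallEtaleTopology ((Functor.const X.Etaleᵒᵖ).obj (ModuleCat.of Λ M))).app (op V)).hom

theorem res_constSec {V W : X.Etale} (f : W ⟶ V) (x : M) :
    res _ (EtModW.constMod Λ X M) f (constSec M V x) = constSec M W x :=
  (NatTrans.naturality_apply (toSheafify X.smallEtaleTopology ((Functor.const X.Etaleᵒᵖ).obj (ModuleCat.of Λ M)))
    f.op x).symm

theorem isTriv_constSec (V : X.Etale) :
    IsTriv X.smallEtaleTopology (EtModW.constMod Λ X M) V (constSec M V) := by
  let P := (Functor.const X.Etaleᵒᵖ).obj (ModuleCat.of Λ M)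
  obtain ⟨hi, hs⟩ := (X.smallEtaleTopology.W_iff_isLocallyBijective _).1 (X.smallEtaleTopology.W_toSheafify P)
  haveI := hi
  haveI := hs
  refine ⟨fun W f s => ⟨_, Presheaf.imageSieve_mem X.smallEtaleTopology (toSheafify _ P) s, fun W' g hg => ?_⟩,
    fun W f x hx => or_iff_not_imp_left.2 fun hx0 => ?_⟩
  · obtain ⟨x, hx⟩ := hg
    exact ⟨x, hx.symm.trans (res_constSec M (g ≫ f) x).symm⟩
  · rw [res_constSec] at hx
    refine X.smallEtaleTopology.superset_covering ?_
      (Presheaf.equalizerSieve_mem X.smallEtaleTopology (toSheafify _ P) x 0 (hx.trans (map_zero _).symm))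
    intro W' g hg
    exact (hx0 hg).elim

end GrothLib.TrivEt
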