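import Groth.Agent.Lib.TrivMod.Basic

/-!
# The comparison isomorphism of a trivialisation, and its naturality
-/

set_option autoImplicit false
set_option linter.style.haveILetI false
set_option backward.isDefEq.respectTransparency.types false

universe w v' u'

open CategoryTheory CategoryTheory.Limits Opposite

noncomputable section

namespace GrothLib.TrivMod

variable {C : Type u'} [Category.{v'} C] {J : GrothendieckTopology C} {R : Type w} [Ring R]
variable {F G : Sheaf J (ModuleCat.{w} R)} {U : C}
variable {M : Type w} [AddCommGroup M] [Module R M] {N : Type w} [AddCommGroup N] [Module R N]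

/-- The map from the constant presheaf on the slice. -/
def trivMor (m : M →ₗ[R] F.obj.obj (op U)) :
    (Functor.const (Over U)ᵒᵖ).obj (ModuleCat.of R M) ⟶ (F.over U).obj where
  app V := ModuleCat.ofHom ((res J F V.unop.hom).comp m)
  naturality V W a := by
    ext x
    show res J F W.unop.hom (m x) = res J F a.unop.left (res J F V.unop.hom (m x))
    rw [← res_comp, Over.w a.unop]

variable [HasWeakSheafify (J.over U) (ModuleCat.{w} R)]
  [(J.over U).WEqualsLocallyBijective (ModuleCat.{w} R)]

theorem isIso_map_trivMor {m : M →ₗ[R] F.obj.obj (op U)} (h : IsTriv J F U m) :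
    IsIso ((presheafToSheaf (J.over U) (ModuleCat.{w} R)).map (trivMor m)) := by
  haveI : Presheaf.IsLocallyInjective (J.over U) (trivMor m) := ⟨fun {V} x y hxy => by
    have hxy' : res J F V.unop.hom (m (x - y)) = 0 := by
      rw [map_sub, map_sub]
      exact sub_eq_zero.2 hxy
    rcases h.inj V.unop.hom (x - y) hxy' with h1 | h1
    · obtain rfl : x = y := sub_eq_zero.1 h1
      simp
    · refine (J.over U).superset_covering bot_le ?_
      rw [GrothendieckTopology.mem_over_iff]
      exact J.superset_covering bot_le h1⟩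
  haveI : Presheaf.IsLocallySurjective (J.over U) (trivMor m) := ⟨fun {V} s => by
    obtain ⟨S, hS, hS'⟩ := h.surj V.hom s
    rw [GrothendieckTopology.mem_over_iff]
    refine J.superset_covering (fun W k hk => ?_) hS
    obtain ⟨x, hx⟩ := hS' k hk
    rw [Sieve.overEquiv_iff]
    exact ⟨x, hx.symm⟩⟩
  have hg : (J.over U).W (trivMor m) := (J.over U).W_of_isLocallyBijective _
  rw [GrothendieckTopology.W_iff] at hg
  exact hg

/-- The isomorphism with the constant sheaf given by a trivialisation. -/
def trivIso {m : M →ₗ[R] F.obj.obj (op U)} (h : IsTriv J F U m) :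
    F.over U ≅ (constantSheaf (J.over U) (ModuleCat.{w} R)).obj (ModuleCat.of R M) :=
  haveI := isIso_map_trivMor h
  (asIso ((presheafToSheaf (J.over U) (ModuleCat.{w} R)).map (trivMor m)) ≪≫
    asIso ((sheafificationAdjunction (J.over U) (ModuleCat.{w} R)).counit.app (F.over U))).symm

theorem trivIso_naturality {m : M →ₗ[R] F.obj.obj (op U)} {n : N →ₗ[R] G.obj.obj (op U)}
    (hm : IsTriv J F U m) (hn : IsTriv J G U n) (φ : F ⟶ G) (h : M →ₗ[R] N)
    (hh : ∀ x, φ.hom.app (op U) (m x) = n (h x)) :
    (J.overPullback (ModuleCat.{w} R) U).map φ ≫ (trivIso hn).hom =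
      (trivIso hm).hom ≫ (constantSheaf (J.over U) (ModuleCat.{w} R)).map (ModuleCat.ofHom h) := by
  have key : trivMor m ≫ ((J.overPullback (ModuleCat.{w} R) U).map φ).hom =
      (Functor.const (Over U)ᵒᵖ).map (ModuleCat.ofHom h) ≫ trivMor n := by
    ext V x
    show φ.hom.app _ (res J F V.unop.hom (m x)) = res J G V.unop.hom (n (h x))
    rw [← hh]
    exact NatTrans.naturality_apply φ.hom V.unop.hom.op _
  let P := presheafToSheaf (J.over U) (ModuleCat.{w} R)
  let ε := (sheafificationAdjunction (J.over U) (ModuleCat.{w} R)).counit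
  have h1 : (trivIso hm).inv ≫ (J.overPullback (ModuleCat.{w} R) U).map φ =
      (constantSheaf (J.over U) (ModuleCat.{w} R)).map (ModuleCat.ofHom h) ≫ (trivIso hn).inv := by
    show (P.map (trivMor m) ≫ ε.app (F.over U)) ≫ _ =
      P.map ((Functor.const (Over U)ᵒᵖ).map (ModuleCat.ofHom h)) ≫ P.map (trivMor n) ≫ ε.app (G.over U)
    rw [Category.assoc, ← Category.assoc (P.map ((Functor.const (Over U)ᵒᵖ).map _)), ← P.map_comp, ← key,
      P.map_comp, Category.assoc]
    exact congrArg (P.map (trivMor m) ≫ ·) (ε.naturality ((J.overPullback (ModuleCat.{w} R) U).map φ)).symm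
  calc (J.overPullback (ModuleCat.{w} R) U).map φ ≫ (trivIso hn).hom
      = ((trivIso hm).hom ≫ (trivIso hm).inv ≫ (J.overPullback (ModuleCat.{w} R) U).map φ) ≫ (trivIso hn).hom := by
        rw [Iso.hom_inv_id_assoc]
    _ = _ := by rw [h1, Category.assoc, Category.assoc, Iso.inv_hom_id, Category.comp_id]

end GrothLib.TrivMod
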